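import Groth.Agent.Lib.FormalExist7.Vanish
import Groth.Agent.Lib.FormalFun.Levels
import Groth.Agent.Lib.CartierDescent.Conditions
import Groth.Agent.Lib.FSchSys.Ker
import Mathlib.AlgebraicGeometry.Morphisms.Proper

/-!
# Properties near a closed subscheme detected on its thickenings
-/

set_option autoImplicit false
set_option linter.style.haveILetI false
set_option linter.unusedSectionVars false
universe u

open CategoryTheory CategoryTheory.Limits AlgebraicGeometry Opposite TopologicalSpace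

namespace GrothLib.Near7

open GrothLib.CartierDescent (stalkIdeal stalkIdeal_eq)
open GrothLib.FormalExist7 (vanishOpens)

variable {X Y : Scheme.{u}}

/-- An ideal sheaf inside all powers of `J` vanishes near the support of `J`. -/
theorem mem_vanishOpens_of_le_pow [IsLocallyNoetherian X] (L J : X.IdealSheafData)
    (h : ∀ n : ℕ, L ≤ J ^ (n + 1)) {y : X} (hy : y ∈ J.support) : y ∈ vanishOpens L := by
  classical
  obtain ⟨_, ⟨U, hU, rfl⟩, hyU, -⟩ := X.isBasis_affineOpens.exists_subset_of_mem_open (Set.mem_univ y) isOpen_univ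
  have hJ : stalkIdeal J y ≠ ⊤ := fun ht => (GrothLib.CartierDescent.stalkIdeal_eq_top_iff J y).1 ht hy
  have h0 : stalkIdeal L y = ⊥ := by
    refine le_bot_iff.1 (le_of_le_of_eq (le_iInf fun n => ?_)
      (Ideal.iInf_pow_eq_bot_of_isLocalRing (stalkIdeal J y) hJ))
    refine (GrothLib.DivPart.stalkIdeal_mono (h n) y).trans ?_
    rw [GrothLib.FormalFun.stalkIdeal_pow]
    exact Ideal.pow_le_pow_right n.le_succ
  haveI := IsLocallyNoetherian.component_noetherian (⟨U, hU⟩ : X.affineOpens)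
  obtain ⟨s, hs⟩ := IsNoetherian.noetherian (L.ideal ⟨U, hU⟩)
  let _ := TopCat.Presheaf.algebra_section_stalk X.presheaf (⟨y, hyU⟩ : U)
  haveI := hU.isLocalization_stalk ⟨y, hyU⟩
  have hk : ∀ b : s, ∃ c ∈ (hU.primeIdealOf ⟨y, hyU⟩).asIdeal.primeCompl, c * (b : Γ(X, U)) = 0 := fun b => by
    have hb : X.presheaf.germ U y hyU (b : Γ(X, U)) = 0 := by
      rw [← Ideal.mem_bot, ← h0, stalkIdeal_eq _ ⟨U, hU⟩ hyU]
      exact Ideal.mem_map_of_mem _ (hs.le (Ideal.subset_span b.2))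
    obtain ⟨c, hc⟩ := (IsLocalization.map_eq_zero_iff (hU.primeIdealOf ⟨y, hyU⟩).asIdeal.primeCompl
      (X.presheaf.stalk y) _).1 hb
    exact ⟨c, c.2, hc⟩
  choose c hc hc0 using hk
  let d := ∏ b ∈ s.attach, c b
  have hd : d ∈ (hU.primeIdealOf ⟨y, hyU⟩).asIdeal.primeCompl := prod_mem fun b _ => hc b
  refine FormalExist7.le_vanishOpens_of_ideal_eq_bot (U := X.affineBasicOpen (U := ⟨U, hU⟩) d) ?_
    ((Scheme.mem_basicOpen _ _ _ hyU).2
      (IsLocalization.map_units (X.presheaf.stalk y) (⟨d, hd⟩ : (hU.primeIdealOf ⟨y, hyU⟩).asIdeal.primeCompl)))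
  rw [← L.map_ideal_basicOpen ⟨U, hU⟩ d, ← hs, Ideal.map_span]
  refine Ideal.span_eq_bot.2 ?_
  rintro _ ⟨b, hb, rfl⟩
  have hu := RingedSpace.isUnit_res_basicOpen X.toRingedSpace d
  have h1 : d * b = 0 := by
    rw [show d = c ⟨b, hb⟩ * ∏ b' ∈ s.attach.erase ⟨b, hb⟩, c b' from
      (Finset.mul_prod_erase _ _ (Finset.mem_attach _ _)).symm, mul_right_comm, hc0, zero_mul]
  have h2 := congrArg (X.presheaf.map (homOfLE (X.basicOpen_le d)).op).hom h1
  rw [map_mul, map_zero] at h2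
  exact hu.mul_right_eq_zero.1 h2

/-- A closed immersion is an isomorphism over an open inside the vanishing locus of its ideal. -/
theorem isIso_morphismRestrict_of_le (i : X ⟶ Y) {U : Y.Opens} [IsClosedImmersion (i ∣_ U)] [QuasiCompact i]
    (hU : U ≤ vanishOpens i.ker) : IsIso (i ∣_ U) := by
  have hbot : (i ∣_ U).ker = ⊥ := by
    let S : {W : U.toScheme.affineOpens // ∃ V : {V : Y.affineOpens // i.ker.ideal V = ⊥}, U.ι ''ᵁ W.1 ≤ V.1.1} →
        U.toScheme.affineOpens := fun W => W.1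
    refine Scheme.IdealSheafData.ext_of_iSup_eq_top S (top_le_iff.1 fun z _ => ?_) fun W => ?_
    · obtain ⟨V, hV⟩ := Opens.mem_iSup.1 (hU z.2)
      obtain ⟨_, ⟨W, hW, rfl⟩, hzW, hWV⟩ := U.toScheme.isBasis_affineOpens.exists_subset_of_mem_open
        (show z ∈ ((U.ι ⁻¹ᵁ V.1.1 : U.toScheme.Opens) : Set U.toScheme) from hV) (U.ι ⁻¹ᵁ V.1.1).2
      exact Opens.mem_iSup.2 ⟨⟨⟨W, hW⟩, V, by rintro _ ⟨w, hw, rfl⟩; exact hWV hw⟩, hzW⟩
    · obtain ⟨V, hV⟩ := W.2
      rw [Scheme.ker_morphismRestrict_ideal]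
      rw [← i.ker.map_ideal (U := ⟨U.ι ''ᵁ W.1.1, W.1.2.image_of_isOpenImmersion _⟩) (V := V.1) hV, V.2,
        Ideal.map_bot]
      rfl
  exact IsClosedImmersion.isIso_of_ker_eq (i ∣_ U) (𝟙 _) (i ∣_ U) (Category.comp_id _)
    (hbot.trans (Scheme.Hom.ker_eq_bot_of_isIso (𝟙 _)).symm)

end GrothLib.Near7
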