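import Groth.Agent.Lib.Near7.Basic
import Groth.Prelude.Def_FSch3

/-!
# Morphisms of proper schemes with closed immersions on completions
-/

set_option autoImplicit false
set_option linter.style.haveILetI false
set_option linter.unusedSectionVars false
universe u

open CategoryTheory CategoryTheory.Limits AlgebraicGeometry Opposite TopologicalSpace

namespace GrothLib.Near7

open GrothLib.FormalExist7 (vanishOpens)

variable {X Y Z : Scheme.{u}}

/-- The level map of a completion is a base change. -/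
theorem isPullback_subschemeMap (f : X ⟶ Y) (I : X.IdealSheafData) (K : Y.IdealSheafData)
    (hIK : I = K.comap f) (H : K ≤ I.map f) :
    IsPullback (Scheme.IdealSheafData.subschemeMap I K f H) I.subschemeι K.subschemeι f := by
  subst hIK
  refine ((IsPullback.of_hasPullback f K.subschemeι).of_iso (K.comapIso f).symm (Iso.refl _) (Iso.refl _)
    (Iso.refl _) ?_ ?_ (by simp) (by simp)).flip
  · simp
  · rw [← cancel_mono K.subschemeι]
    simp [← pullback.condition]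

/-- The largest open over which a condition holds, saturated along a closed map. -/
theorem exists_open_preimage_le (h : Y ⟶ Z) [UniversallyClosed h] (J : Z.IdealSheafData) (W : Y.Opens)
    (hW : ∀ y : Y, h y ∈ J.support → y ∈ W) :
    ∃ U : Z.Opens, (J.support : Set Z) ⊆ U ∧ h ⁻¹ᵁ U ≤ W := by
  refine ⟨⟨(h '' (W : Set Y)ᶜ)ᶜ, (h.isClosedMap _ W.2.isClosed_compl).isOpen_compl⟩, fun z hz hmem => ?_, fun y hy => ?_⟩
  · obtain ⟨y, hy, rfl⟩ := hmem
    exact hy (hW y hz)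
  · by_contra hyW
    exact hy ⟨y, hyW, rfl⟩

theorem isPullback_morphismRestrict_le (f : X ⟶ Y) {V' V : Y.Opens} (hV : V' ≤ V) :
    IsPullback (X.homOfLE (f.preimage_mono hV)) (f ∣_ V') (f ∣_ V) (Y.homOfLE hV) := by
  have hbig : IsPullback (X.homOfLE (f.preimage_mono hV) ≫ (f ⁻¹ᵁ V).ι) (f ∣_ V') f (Y.homOfLE hV ≫ V.ι) := by
    rw [Scheme.homOfLE_ι, Scheme.homOfLE_ι]
    exact (isPullback_morphismRestrict f V').flip
  refine IsPullback.of_right hbig ?_ (isPullback_morphismRestrict f V).flip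
  rw [← cancel_mono V.ι, Category.assoc, Category.assoc, morphismRestrict_ι, Scheme.homOfLE_ι_assoc,
    Scheme.homOfLE_ι, morphismRestrict_ι]

variable [IsLocallyNoetherian Z] (g : X ⟶ Z) (h : Y ⟶ Z) [IsProper g] [IsProper h] (f : X ⟶ Y)
  (w : f ≫ h = g) (𝓙 : Z.IdealSheafData)

include w in
theorem comap_pow_comap (n : ℕ) : (𝓙.comap g) ^ (n + 1) = ((𝓙.comap h) ^ (n + 1)).comap f := by
  rw [FSchSys.comap_pow, ← Scheme.IdealSheafData.comap_comp, w]

include w in
theorem isClosedImmersion_near (hc : FSch.PowCompat f (𝓙.comap g) (𝓙.comap h))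
    (H : ∀ n : ℕ, IsClosedImmersion
      ((FSch.completionMap f (𝓙.comap g) (𝓙.comap h) hc : FSch.Hom _ _).app n)) :
    ∃ U : Z.Opens, (𝓙.support : Set Z) ⊆ U ∧ IsClosedImmersion (f ∣_ h ⁻¹ᵁ U) := by
  haveI : IsLocallyNoetherian Y := LocallyOfFiniteType.isLocallyNoetherian h
  haveI : IsProper f := by
    haveI : IsProper (f ≫ h) := w ▸ inferInstance
    exact IsProper.of_comp f h
  let P := pullback f f
  let q : P ⟶ Y := pullback.fst f f ≫ f
  haveI : IsProper (q ≫ h) := inferInstanceAs (IsProper ((pullback.fst f f ≫ f) ≫ h))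
  haveI : IsLocallyNoetherian P := LocallyOfFiniteType.isLocallyNoetherian (q ≫ h)
  let K := 𝓙.comap (q ≫ h)
  let Δ := pullback.diagonal f
  haveI : IsClosedImmersion Δ := inferInstance
  have hsq := fun n => isPullback_subschemeMap f ((𝓙.comap g) ^ (n + 1)) ((𝓙.comap h) ^ (n + 1))
    (comap_pow_comap g h f w 𝓙 n) (Scheme.IdealSheafData.le_map_iff_comap_le.2 (hc n))
  have hle : ∀ n, Δ.ker ≤ K ^ (n + 1) := by
    intro n
    let j := (K ^ (n + 1)).subschemeι
    have hj : ∀ (p : P ⟶ X), p ≫ f = q → ((𝓙.comap g) ^ (n + 1)).subschemeι.ker ≤ (j ≫ p).ker := by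
      intro p hp
      rw [Scheme.IdealSheafData.ker_subschemeι, ← Scheme.IdealSheafData.map_ker,
        Scheme.IdealSheafData.le_map_iff_comap_le, Scheme.IdealSheafData.ker_subschemeι, FSchSys.comap_pow,
        ← Scheme.IdealSheafData.comap_comp, ← w, ← Category.assoc, hp]
    let a₁ := IsClosedImmersion.lift ((𝓙.comap g) ^ (n + 1)).subschemeι (j ≫ pullback.fst f f) (hj _ rfl)
    let a₂ := IsClosedImmersion.lift ((𝓙.comap g) ^ (n + 1)).subschemeι (j ≫ pullback.snd f f)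
      (hj _ pullback.condition.symm)
    have h₁ : a₁ ≫ ((𝓙.comap g) ^ (n + 1)).subschemeι = j ≫ pullback.fst f f := IsClosedImmersion.lift_fac _ _ _
    have h₂ : a₂ ≫ ((𝓙.comap g) ^ (n + 1)).subschemeι = j ≫ pullback.snd f f := IsClosedImmersion.lift_fac _ _ _
    have e : a₁ = a₂ := by
      haveI : IsClosedImmersion (Scheme.IdealSheafData.subschemeMap ((𝓙.comap g) ^ (n + 1)) ((𝓙.comap h) ^ (n + 1))
          f (Scheme.IdealSheafData.le_map_iff_comap_le.2 (hc n))) := H n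
      rw [← cancel_mono (Scheme.IdealSheafData.subschemeMap ((𝓙.comap g) ^ (n + 1)) ((𝓙.comap h) ^ (n + 1))
          f (Scheme.IdealSheafData.le_map_iff_comap_le.2 (hc n))),
        ← cancel_mono ((𝓙.comap h) ^ (n + 1)).subschemeι]
      simp only [Category.assoc, (hsq n).w]
      rw [reassoc_of% h₁, reassoc_of% h₂, pullback.condition]
    have hfac : j = (j ≫ pullback.fst f f) ≫ Δ := by
      apply pullback.hom_ext
      · simp [Δ]
      · rw [← h₁, e, h₂]; simp [Δ]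
    calc Δ.ker ≤ ((j ≫ pullback.fst f f) ≫ Δ).ker := Scheme.Hom.le_ker_comp _ _
      _ = K ^ (n + 1) := by rw [← hfac, Scheme.IdealSheafData.ker_subschemeι]
  have hW : ∀ p : P, (q ≫ h) p ∈ 𝓙.support → p ∈ vanishOpens Δ.ker := fun p hp =>
    mem_vanishOpens_of_le_pow Δ.ker K hle (by rw [Scheme.IdealSheafData.support_comap]; exact hp)
  obtain ⟨U, hUJ, hU⟩ := exists_open_preimage_le (q ≫ h) 𝓙 _ hW
  refine ⟨U, hUJ, ?_⟩
  haveI : IsProper (f ∣_ h ⁻¹ᵁ U) := IsZariskiLocalAtTarget.restrict ‹IsProper f› _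
  haveI : IsClosedImmersion (Δ ∣_ (q ≫ h) ⁻¹ᵁ U) := IsZariskiLocalAtTarget.restrict ‹IsClosedImmersion Δ› _
  haveI := isIso_morphismRestrict_of_le Δ hU
  refine (IsClosedImmersion.iff_isProper_and_mono _).2 ⟨inferInstance, ⟨fun {T} a b hab => ?_⟩⟩
  let V := h ⁻¹ᵁ U
  have hab' : (a ≫ (f ⁻¹ᵁ V).ι) ≫ f = (b ≫ (f ⁻¹ᵁ V).ι) ≫ f := by
    rw [Category.assoc, Category.assoc, ← morphismRestrict_ι, reassoc_of% hab]
  let c : T ⟶ P := pullback.lift _ _ hab'
  have hc' : ∀ t : T, c t ∈ (q ≫ h) ⁻¹ᵁ U := fun t => by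
    show (c ≫ pullback.fst f f ≫ f ≫ h) t ∈ U
    rw [reassoc_of% (pullback.lift_fst _ _ hab')]
    exact (a t).2
  let c' := IsOpenImmersion.lift ((q ≫ h) ⁻¹ᵁ U).ι c (by rintro _ ⟨t, rfl⟩; rw [Scheme.Opens.range_ι]; exact hc' t)
  have hc'' : c' ≫ ((q ≫ h) ⁻¹ᵁ U).ι = c := IsOpenImmersion.lift_fac _ _ _
  rw [← cancel_mono (f ⁻¹ᵁ V).ι]
  have hd : c = (c' ≫ inv (Δ ∣_ (q ≫ h) ⁻¹ᵁ U) ≫ (Δ ⁻¹ᵁ ((q ≫ h) ⁻¹ᵁ U)).ι) ≫ Δ := by
    simp only [Category.assoc, ← morphismRestrict_ι, IsIso.inv_hom_id_assoc, hc'']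
  have e1 : c ≫ pullback.fst f f = a ≫ (f ⁻¹ᵁ V).ι := pullback.lift_fst _ _ _
  have e2 : c ≫ pullback.snd f f = b ≫ (f ⁻¹ᵁ V).ι := pullback.lift_snd _ _ _
  rw [← e1, ← e2, hd]
  simp [Δ]

include w in
theorem isIso_near (hc : FSch.PowCompat f (𝓙.comap g) (𝓙.comap h))
    (H : ∀ n : ℕ, IsIso ((FSch.completionMap f (𝓙.comap g) (𝓙.comap h) hc : FSch.Hom _ _).app n)) :
    ∃ U : Z.Opens, (𝓙.support : Set Z) ⊆ U ∧ IsIso (f ∣_ h ⁻¹ᵁ U) := by
  obtain ⟨U, hUJ, hU⟩ := isClosedImmersion_near g h f w 𝓙 hc fun n => by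
    haveI := H n
    infer_instance
  haveI : IsLocallyNoetherian Y := LocallyOfFiniteType.isLocallyNoetherian h
  haveI : IsProper f := by
    haveI : IsProper (f ≫ h) := w ▸ inferInstance
    exact IsProper.of_comp f h
  have hle : ∀ n, f.ker ≤ (𝓙.comap h) ^ (n + 1) := fun n => by
    haveI : IsIso (Scheme.IdealSheafData.subschemeMap ((𝓙.comap g) ^ (n + 1)) ((𝓙.comap h) ^ (n + 1))
        f (Scheme.IdealSheafData.le_map_iff_comap_le.2 (hc n))) := H n
    let s := Scheme.IdealSheafData.subschemeMap ((𝓙.comap g) ^ (n + 1)) ((𝓙.comap h) ^ (n + 1))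
        f (Scheme.IdealSheafData.le_map_iff_comap_le.2 (hc n))
    calc f.ker ≤ ((inv s ≫ ((𝓙.comap g) ^ (n + 1)).subschemeι) ≫ f).ker := Scheme.Hom.le_ker_comp _ _
      _ = (𝓙.comap h) ^ (n + 1) := by
        rw [Category.assoc, ← Scheme.IdealSheafData.subschemeMap_subschemeι _ _ f
          (Scheme.IdealSheafData.le_map_iff_comap_le.2 (hc n)), IsIso.inv_hom_id_assoc,
          Scheme.IdealSheafData.ker_subschemeι]
  obtain ⟨U', hUJ', hU'⟩ := exists_open_preimage_le h 𝓙 (vanishOpens f.ker) fun y hy =>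
    mem_vanishOpens_of_le_pow f.ker (𝓙.comap h) hle (by rw [Scheme.IdealSheafData.support_comap]; exact hy)
  refine ⟨U ⊓ U', fun z hz => ⟨hUJ hz, hUJ' hz⟩, ?_⟩
  have hV : h ⁻¹ᵁ (U ⊓ U') ≤ h ⁻¹ᵁ U := h.preimage_mono inf_le_left
  haveI : IsClosedImmersion (f ∣_ h ⁻¹ᵁ (U ⊓ U')) :=
    MorphismProperty.of_isPullback (P := @IsClosedImmersion) (isPullback_morphismRestrict_le f hV) hU
  exact isIso_morphismRestrict_of_le f ((h.preimage_mono inf_le_right).trans hU')

end GrothLib.Near7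

namespace GrothLib.Near7

open CategoryTheory AlgebraicGeometry

/-- A stable property of `f` over an open containing the closed subscheme passes to the level maps. -/
theorem level_of_near (P : MorphismProperty Scheme.{u}) [P.IsStableUnderBaseChange] {X Y Z : Scheme.{u}}
    (g : X ⟶ Z) (h : Y ⟶ Z) (f : X ⟶ Y) (w : f ≫ h = g) (𝓙 : Z.IdealSheafData)
    (hc : FSch.PowCompat f (𝓙.comap g) (𝓙.comap h)) {U : Z.Opens} (hU : (𝓙.support : Set Z) ⊆ U)
    (hP : P (f ∣_ h ⁻¹ᵁ U)) (n : ℕ) :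
    P ((FSch.completionMap f (𝓙.comap g) (𝓙.comap h) hc : FSch.Hom _ _).app n) := by
  let V := h ⁻¹ᵁ U
  let K := (𝓙.comap h) ^ (n + 1)
  have hsq := (isPullback_subschemeMap f ((𝓙.comap g) ^ (n + 1)) K
    (by rw [FSchSys.comap_pow, ← Scheme.IdealSheafData.comap_comp, w])
    (Scheme.IdealSheafData.le_map_iff_comap_le.2 (hc n))).flip
  have hr : Set.range K.subschemeι ⊆ Set.range V.ι := by
    rw [Scheme.IdealSheafData.range_subschemeι, Scheme.IdealSheafData.support_pow_succ,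
      Scheme.IdealSheafData.support_comap, Scheme.Opens.range_ι]
    exact fun y hy => hU hy
  let k := IsOpenImmersion.lift V.ι K.subschemeι hr
  have hk : k ≫ V.ι = K.subschemeι := IsOpenImmersion.lift_fac _ _ _
  have hr' : Set.range ((𝓙.comap g) ^ (n + 1)).subschemeι ⊆ Set.range (f ⁻¹ᵁ V).ι := by
    rw [Scheme.IdealSheafData.range_subschemeι, Scheme.IdealSheafData.support_pow_succ,
      Scheme.IdealSheafData.support_comap, Scheme.Opens.range_ι, ← w]
    exact fun x hx => hU hx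
  let k' := IsOpenImmersion.lift (f ⁻¹ᵁ V).ι ((𝓙.comap g) ^ (n + 1)).subschemeι hr'
  have hk' : k' ≫ (f ⁻¹ᵁ V).ι = ((𝓙.comap g) ^ (n + 1)).subschemeι := IsOpenImmersion.lift_fac _ _ _
  have hbig : IsPullback (k' ≫ (f ⁻¹ᵁ V).ι) (Scheme.IdealSheafData.subschemeMap _ _ f
      (Scheme.IdealSheafData.le_map_iff_comap_le.2 (hc n))) f (k ≫ V.ι) := by
    rw [hk, hk']; exact hsq
  suffices P (Scheme.IdealSheafData.subschemeMap ((𝓙.comap g) ^ (n + 1)) ((𝓙.comap h) ^ (n + 1)) f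
      (Scheme.IdealSheafData.le_map_iff_comap_le.2 (hc n))) from this
  refine MorphismProperty.of_isPullback (P := P) (IsPullback.of_right hbig ?_ (isPullback_morphismRestrict f V).flip) hP
  rw [← cancel_mono V.ι, Category.assoc, Category.assoc, morphismRestrict_ι, hk, reassoc_of% hk']
  exact (Scheme.IdealSheafData.subschemeMap_subschemeι _ _ _ _).symm

end GrothLib.Near7
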